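import Cfsg.Agent.H473.NX.Kill
import Cfsg.Agent.H586.NX.Fix
import Cfsg.Agent.H921.NX.Tw
import Cfsg.Agent.H232.NX.GenFive
import Cfsg.Agent.H447.NX.Eigen

/-!
# S4979, layer (B), piece B7 (helper473): final statements
-/

set_option autoImplicit false
set_option linter.unusedSectionVars false

namespace Cfsg.Agent.H473.NX

open Cfsg.Agent.H586.NX

section LXsec

variable {p q s n : ℕ} {G W Y U : Type*} [Group G] [Finite G] [AddCommGroup W] [Finite W]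
    [DistribMulAction G W] [Group Y] [Finite Y] [AddCommGroup U] [Finite U] [DistribMulAction Y U]
    {L Z : Subgroup G} {π : G →* Y} {a : L →* Multiplicative U} {X : Subgroup Y}

theorem fx {B : U → U → ZMod s} (S : SX (U := U) p q s n X B) : Fx p s n Y U := fun _ hx =>
  let ⟨j, h1, h2, h3, h4, _⟩ := Cfsg.Agent.H586.NX.exists_fix S hx
  ⟨j, h1, h2, h3, h4⟩

theorem sq {B : U → U → ZMod s} (S : SX (U := U) p q s n X B) : Sq (Y := Y) p s B := fun _ hx T hi hT =>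
  Cfsg.Agent.H586.NX.card_sq_le S hx T hi hT

theorem kill_ge_five {B : U → U → ZMod 2} (S : SX (U := U) p q 2 n X B) (h : LB (W := W) p q 2 n L Z π a B) {Q : ℕ}
    (hQ : Nat.card W = Q ^ (2 ^ n)) (hQ5 : 5 ≤ Q) (hQ6 : Q ≠ 6) (hp5 : p = 5 → 7 ≤ Q)
    (hcase : (p = 5 ∧ n ≤ 4) ∨ (p = 7 ∧ n ≤ 4) ∨ (p = 17 ∧ n = 4)) : False :=
  kill_ge_five' S h (fx S) (sq S) (fun _ hw => Cfsg.Agent.H921.NX.exists_T h hw)
    (fun _ hi hb => Cfsg.Agent.H921.NX.exists_gen S h hQ hi hb)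
    (fun h5 _ hi => Cfsg.Agent.H232.NX.exists_gen_five S h (by rw [hQ, h5]) hi) hQ5 hQ6 hp5 hcase

theorem kill_three {B : U → U → ZMod 3} (S : SX (U := U) 5 q 3 2 X B) (h : LB (W := W) 5 q 3 2 L Z π a B) : False :=
  kill_three' S h (fx S) (sq S) (fun _ hw => Cfsg.Agent.H921.NX.exists_T h hw)
    (Cfsg.Agent.H447.NX.exists_eigen (by norm_num) S h)

/-- `p = 3`: a Sylow `3`-subgroup of `Y` fixes a nonzero vector of `U` -/
theorem exists_fixed {B : U → U → ZMod 2} (S : SX (U := U) 3 q 2 n X B) (h : LB (W := W) 3 q 2 n L Z π a B) {Q : ℕ}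
    (hQ : Nat.card W = Q ^ (2 ^ n)) (hQ5 : 5 ≤ Q) (hQ6 : Q ≠ 6) (hn : 2 ≤ n) (hn5 : n ≤ 5)
    (hQ7 : n = 2 → 7 ≤ Q) :
    ∀ P : Sylow 3 Y, ∃ u : U, u ≠ 0 ∧ ∀ x ∈ P, x • u = u :=
  exists_fixed' S h (fun _ hw => Cfsg.Agent.H921.NX.exists_T h hw)
    (fun _ hi hb => Cfsg.Agent.H921.NX.exists_gen S h hQ hi hb)
    (fun h5 _ hi => Cfsg.Agent.H232.NX.exists_gen_five S h (by rw [hQ, h5]) hi) hQ5 hQ6 hn hn5 hQ7

end LXsec

end Cfsg.Agent.H473.NX
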